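import Cfsg.Agent.Lib.Sporadic.CosetCertGroup

/-!
# Coset enumeration certificate FiData.certD5

Machine-generated data and the kernel checks on it.
-/

set_option maxRecDepth 100000

namespace CfsgLib.Sporadic.CosetCert.FiData

/-- Coset enumeration certificate `fi4`: 10 cosets, 10 nodes, 50 facts. -/
noncomputable def certD5 : Cert where
  N := 10
  M := 10
  nl := 5
  nr := 15
  fuel := 1
  vb := 8
  rb := 6
  iv := 0x543210
  words := [(2, 0x0), (6, 0x10101), (4, 0x202), (4, 0x303), (4, 0x404), (2, 0x11), (6, 0x121212), (4, 0x1313), (6, 0x141414), (2, 0x22), (6, 0x232323), (4, 0x2424), (2, 0x33), (4, 0x3434), (2, 0x44), (1, 0x0), (1, 0x1), (1, 0x2), (1, 0x4)]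
  slots := (.leaf 0x3209b823109c026f090002c08b426907ac22a080002707981e808901a5070001e04881a1068c1df0500019037015b0568160060001d065c1160454114030001805480d10340093040000e023408b013c0cc0200009011800a022004701000040014043000800100)
  just := (.leaf 0x210021a400040c21808400051010800072021000064000000000083808590000000000002040ec041c0018808380011000000000020c021040418041c800000000000101066020c00024000000000000820230104000d20208001640000000000820002100000000000020806c040c00348081800590103000820002000cc00000000000000000010301032020602044040c040480008001b0000000000000000000408041c808100831000101026000000000000000000080808590101010a200020402c000000000080800110000000000200021a400040c018000000000100000720200000640000000000000009100000000000000022400000040800000079)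
  parent := (.leaf 0x3402d02601d01701300e009004000)

theorem certD5_keys0 : certD5.keysOK 0 60 = true := by decide +kernel
theorem certD5_closed0 : certD5.closedFrom 51 0 10 = true := by decide +kernel

theorem certD5_valid : certD5.Valid :=
  valid_of
    (fun k hk => (keysOK_spec certD5_keys0) k (Nat.zero_le _) hk)
    (fun u hu => ⟨51, (closedFrom_spec certD5_closed0) u (Nat.zero_le _) hu⟩)
    (by decide +kernel) (by decide +kernel)

end CfsgLib.Sporadic.CosetCert.FiData
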