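import Cfsg.Agent.Lib.Sporadic.FiData.FiCertOCheck0
import Cfsg.Agent.Lib.Sporadic.FiData.FiCertOCheck1
import Cfsg.Agent.Lib.Sporadic.FiData.FiCertOCheck2
import Cfsg.Agent.Lib.Sporadic.FiData.FiCertOCheck3
import Cfsg.Agent.Lib.Sporadic.FiData.FiCertOCheck4
import Cfsg.Agent.Lib.Sporadic.FiData.FiCertOCheck5

/-!
# Coset enumeration certificate FiData.certO

Machine-generated data and the kernel checks on it.
-/

set_option maxRecDepth 100000

namespace CfsgLib.Sporadic.CosetCert.FiData


theorem certO_valid : certO.Valid :=
  valid_of
    (fun k hk => (range_split (range_split (range_split (range_split (range_split (range_split (range_split (range_split (range_split (range_split (range_split (range_split (range_split (range_split (range_split (range_split (range_split (range_split (range_split (range_split (range_split (range_split (range_split (range_split (range_split (range_split (range_split (range_split (range_split (range_split (range_split (range_split (range_split (range_split (range_split (range_split (range_split (range_split (range_split (keysOK_spec certO_keys0) (keysOK_spec certO_keys1)) (keysOK_spec certO_keys2)) (keysOK_spec certO_keys3))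 (keysOK_spec certO_keys4)) (keysOK_spec certO_keys5)) (keysOK_spec certO_keys6)) (keysOK_spec certO_keys7)) (keysOK_spec certO_keys8)) (keysOK_spec certO_keys9)) (keysOK_spec certO_keys10)) (keysOK_spec certO_keys11)) (keysOK_spec certO_keys12)) (keysOK_spec certO_keys13)) (keysOK_spec certO_keys14)) (keysOK_spec certO_keys15)) (keysOK_spec certO_keys16)) (keysOK_spec certO_keys17)) (keysOK_spec certO_keys18)) (keysOK_spec certO_keys19)) (keysOK_spec certO_keys20)) (keysOK_spec certO_keys21)) (keysOK_spec certO_keys22)) (keysOK_spec certO_keys23)) (keysOK_spec certO_keys24)) (keysOK_spec certO_keys25)) (keysOK_spec certO_keys26)) (keysOK_spec certO_keys27)) (keysOK_spec certO_keys28)) (keysOK_spec certO_keys29)) (keysOK_spec certO_keys30)) (keysOK_spec certO_keys31)) (keysOK_spec certO_keys32)) (keysOK_spec certO_keys33)) (keysOK_spec certO_keys34)) (keysOK_spec certO_keys35)) (keysOK_spec certO_keys36)) (keysOK_spec certO_keys37)) (keysOK_spec certO_keys38)) (keysOK_spec certO_keys39)) k (Nat.zero_le _) hk)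
    (fun u hu => ⟨132878, (range_split (range_split (range_split (range_split (range_split (range_split (range_split (closedFrom_spec certO_closed0) (closedFrom_spec certO_closed1)) (closedFrom_spec certO_closed2)) (closedFrom_spec certO_closed3)) (closedFrom_spec certO_closed4)) (closedFrom_spec certO_closed5)) (closedFrom_spec certO_closed6)) (closedFrom_spec certO_closed7)) u (Nat.zero_le _) hu⟩)
    (by decide +kernel) (by decide +kernel)

end CfsgLib.Sporadic.CosetCert.FiData
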