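import Cfsg.Agent.Lib.Sporadic.FiData.FiCertO1Data

/-!
# Coset enumeration certificate FiData.certO1, checks 1

Machine-generated data and the kernel checks on it.
-/

set_option maxRecDepth 100000

namespace CfsgLib.Sporadic.CosetCert.FiData

theorem certO1_keys8 : certO1.keysOK 32000 4000 = true := by decide +kernel
theorem certO1_keys9 : certO1.keysOK 36000 4000 = true := by decide +kernel
theorem certO1_keys10 : certO1.keysOK 40000 4000 = true := by decide +kernel
theorem certO1_keys11 : certO1.keysOK 44000 4000 = true := by decide +kernel
theorem certO1_keys12 : certO1.keysOK 48000 4000 = true := by decide +kernel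
theorem certO1_keys13 : certO1.keysOK 52000 4000 = true := by decide +kernel
theorem certO1_keys14 : certO1.keysOK 56000 4000 = true := by decide +kernel
theorem certO1_keys15 : certO1.keysOK 60000 4000 = true := by decide +kernel

end CfsgLib.Sporadic.CosetCert.FiData
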