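import Cfsg.Agent.Lib.Sporadic.FiData.FiCertO1Data

/-!
# Coset enumeration certificate FiData.certO1, checks 3

Machine-generated data and the kernel checks on it.
-/

set_option maxRecDepth 100000

namespace CfsgLib.Sporadic.CosetCert.FiData

theorem certO1_keys24 : certO1.keysOK 96000 4000 = true := by decide +kernel
theorem certO1_keys25 : certO1.keysOK 100000 4000 = true := by decide +kernel
theorem certO1_keys26 : certO1.keysOK 104000 4000 = true := by decide +kernel
theorem certO1_keys27 : certO1.keysOK 108000 4000 = true := by decide +kernel
theorem certO1_keys28 : certO1.keysOK 112000 4000 = true := by decide +kernel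
theorem certO1_keys29 : certO1.keysOK 116000 4000 = true := by decide +kernel
theorem certO1_keys30 : certO1.keysOK 120000 4000 = true := by decide +kernel
theorem certO1_keys31 : certO1.keysOK 124000 4000 = true := by decide +kernel

end CfsgLib.Sporadic.CosetCert.FiData
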