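import Cfsg.Agent.Lib.Sporadic.FiData.FiCertO1Check0
import Cfsg.Agent.Lib.Sporadic.FiData.FiCertO1Check1
import Cfsg.Agent.Lib.Sporadic.FiData.FiCertO1Check2
import Cfsg.Agent.Lib.Sporadic.FiData.FiCertO1Check3
import Cfsg.Agent.Lib.Sporadic.FiData.FiCertO1Check4

/-!
# Coset enumeration certificate FiData.certO1

Machine-generated data and the kernel checks on it.
-/

set_option maxRecDepth 100000

namespace CfsgLib.Sporadic.CosetCert.FiData


theorem certO1_valid : certO1.Valid :=
  valid_of
    (fun k hk => (range_split (range_split (range_split (range_split (range_split (range_split (range_split (range_split (range_split (range_split (range_split (range_split (range_split (range_split (range_split (range_split (range_split (range_split (range_split (range_split (range_split (range_split (range_split (range_split (range_split (range_split (range_split (range_split (range_split (range_split (range_split (range_split (range_split (range_split (range_split (keysOK_spec certO1_keys0) (keysOK_spec certO1_keys1)) (keysOK_spec certO1_keys2)) (keysOK_spec certO1_keys3)) (keysOK_spec certO1_keys4)) (keysOK_spec certO1_keys5)) (keysOK_spec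 certO1_keys6)) (keysOK_spec certO1_keys7)) (keysOK_spec certO1_keys8)) (keysOK_spec certO1_keys9)) (keysOK_spec certO1_keys10)) (keysOK_spec certO1_keys11)) (keysOK_spec certO1_keys12)) (keysOK_spec certO1_keys13)) (keysOK_spec certO1_keys14)) (keysOK_spec certO1_keys15)) (keysOK_spec certO1_keys16)) (keysOK_spec certO1_keys17)) (keysOK_spec certO1_keys18)) (keysOK_spec certO1_keys19)) (keysOK_spec certO1_keys20)) (keysOK_spec certO1_keys21)) (keysOK_spec certO1_keys22)) (keysOK_spec certO1_keys23)) (keysOK_spec certO1_keys24)) (keysOK_spec certO1_keys25)) (keysOK_spec certO1_keys26)) (keysOK_spec certO1_keys27)) (keysOK_spec certO1_keys28)) (keysOK_spec certO1_keys29)) (keysOK_spec certO1_keys30)) (keysOK_spec certO1_keys31)) (keysOK_spec certO1_keys32)) (keysOK_spec certO1_keys33)) (keysOK_spec certO1_keys34)) (keysOK_spec certO1_keys35)) k (Nat.zero_le _) hk)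
    (fun u hu => ⟨78860, (range_split (closedFrom_spec certO1_closed0) (closedFrom_spec certO1_closed1)) u (Nat.zero_le _) hu⟩)
    (by decide +kernel) (by decide +kernel)

end CfsgLib.Sporadic.CosetCert.FiData
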