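import Cfsg.Agent.Lib.Sporadic.FiData.FiTable
import Cfsg.Agent.Lib.Sporadic.FiData.FiCertH

/-!
# Relators act trivially, part 1

Machine-generated data and the kernel checks on it.
-/

set_option maxRecDepth 100000

namespace CfsgLib.Sporadic.CosetCert.FiData

theorem table_word16 : table.wordOK (certH.word 16) 0 3510 = true := by decide +kernel
theorem table_word17 : table.wordOK (certH.word 17) 0 3510 = true := by decide +kernel
theorem table_word18 : table.wordOK (certH.word 18) 0 3510 = true := by decide +kernel
theorem table_word19 : table.wordOK (certH.word 19) 0 3510 = true := by decide +kernel
theorem table_word20 : table.wordOK (certH.word 20) 0 3510 = true := by decide +kernel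
theorem table_word21 : table.wordOK (certH.word 21) 0 3510 = true := by decide +kernel
theorem table_word22 : table.wordOK (certH.word 22) 0 3510 = true := by decide +kernel
theorem table_word23 : table.wordOK (certH.word 23) 0 3510 = true := by decide +kernel
theorem table_word24 : table.wordOK (certH.word 24) 0 3510 = true := by decide +kernel
theorem table_word25 : table.wordOK (certH.word 25) 0 3510 = true := by decide +kernel
theorem table_word26 : table.wordOK (certH.word 26) 0 3510 = true := by decide +kernel
theorem table_word27 : table.wordOK (certH.word 27) 0 3510 = true := by decide +kernel
theorem table_word28 : table.wordOK (certH.word 28) 0 3510 = true := by decide +kernel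
theorem table_word29 : table.wordOK (certH.word 29) 0 3510 = true := by decide +kernel
theorem table_word30 : table.wordOK (certH.word 30) 0 3510 = true := by decide +kernel
theorem table_word31 : table.wordOK (certH.word 31) 0 3510 = true := by decide +kernel

end CfsgLib.Sporadic.CosetCert.FiData
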