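import Cfsg.Agent.Lib.Sporadic.FiData.FiTable
import Cfsg.Agent.Lib.Sporadic.FiData.FiCertH

/-!
# Relators act trivially, part 2

Machine-generated data and the kernel checks on it.
-/

set_option maxRecDepth 100000

namespace CfsgLib.Sporadic.CosetCert.FiData

theorem table_word32 : table.wordOK (certH.word 32) 0 3510 = true := by decide +kernel
theorem table_word33 : table.wordOK (certH.word 33) 0 3510 = true := by decide +kernel
theorem table_word34 : table.wordOK (certH.word 34) 0 3510 = true := by decide +kernel
theorem table_word35 : table.wordOK (certH.word 35) 0 3510 = true := by decide +kernel
theorem table_word36 : table.wordOK (certH.word 36) 0 3510 = true := by decide +kernel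
theorem table_word37 : table.wordOK (certH.word 37) 0 3510 = true := by decide +kernel
theorem table_word38 : table.wordOK (certH.word 38) 0 3510 = true := by decide +kernel
theorem table_word39 : table.wordOK (certH.word 39) 0 3510 = true := by decide +kernel
theorem table_word40 : table.wordOK (certH.word 40) 0 3510 = true := by decide +kernel
theorem table_word41 : table.wordOK (certH.word 41) 0 3510 = true := by decide +kernel
theorem table_word42 : table.wordOK (certH.word 42) 0 3510 = true := by decide +kernel
theorem table_word43 : table.wordOK (certH.word 43) 0 3510 = true := by decide +kernel
theorem table_word44 : table.wordOK (certH.word 44) 0 3510 = true := by decide +kernel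
theorem table_word45 : table.wordOK (certH.word 45) 0 3510 = true := by decide +kernel
theorem table_word46 : table.wordOK (certH.word 46) 0 3510 = true := by decide +kernel
theorem table_word47 : table.wordOK (certH.word 47) 0 3510 = true := by decide +kernel

end CfsgLib.Sporadic.CosetCert.FiData
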