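import Cfsg.Agent.Lib.Sporadic.FiData.FiWords0
import Cfsg.Agent.Lib.Sporadic.FiData.FiWords1
import Cfsg.Agent.Lib.Sporadic.FiData.FiWords2

/-!
# Relators act trivially

Machine-generated data and the kernel checks on it.
-/

set_option maxRecDepth 100000

namespace CfsgLib.Sporadic.CosetCert.FiData

theorem table_relators : ∀ i < certH.nr, ∀ u < table.N,
    table.run (certH.word i).1 (certH.word i).2 u = u := by
  intro i hi u hu
  change i < 48 at hi
  match i, hi with
  | 0, _ => exact wordOK_spec table_word0 u (Nat.zero_le _) hu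
  | 1, _ => exact wordOK_spec table_word1 u (Nat.zero_le _) hu
  | 2, _ => exact wordOK_spec table_word2 u (Nat.zero_le _) hu
  | 3, _ => exact wordOK_spec table_word3 u (Nat.zero_le _) hu
  | 4, _ => exact wordOK_spec table_word4 u (Nat.zero_le _) hu
  | 5, _ => exact wordOK_spec table_word5 u (Nat.zero_le _) hu
  | 6, _ => exact wordOK_spec table_word6 u (Nat.zero_le _) hu
  | 7, _ => exact wordOK_spec table_word7 u (Nat.zero_le _) hu
  | 8, _ => exact wordOK_spec table_word8 u (Nat.zero_le _) hu
  | 9, _ => exact wordOK_spec table_word9 u (Nat.zero_le _) hu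
  | 10, _ => exact wordOK_spec table_word10 u (Nat.zero_le _) hu
  | 11, _ => exact wordOK_spec table_word11 u (Nat.zero_le _) hu
  | 12, _ => exact wordOK_spec table_word12 u (Nat.zero_le _) hu
  | 13, _ => exact wordOK_spec table_word13 u (Nat.zero_le _) hu
  | 14, _ => exact wordOK_spec table_word14 u (Nat.zero_le _) hu
  | 15, _ => exact wordOK_spec table_word15 u (Nat.zero_le _) hu
  | 16, _ => exact wordOK_spec table_word16 u (Nat.zero_le _) hu
  | 17, _ => exact wordOK_spec table_word17 u (Nat.zero_le _) hu
  | 18, _ => exact wordOK_spec table_word18 u (Nat.zero_le _) hu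
  | 19, _ => exact wordOK_spec table_word19 u (Nat.zero_le _) hu
  | 20, _ => exact wordOK_spec table_word20 u (Nat.zero_le _) hu
  | 21, _ => exact wordOK_spec table_word21 u (Nat.zero_le _) hu
  | 22, _ => exact wordOK_spec table_word22 u (Nat.zero_le _) hu
  | 23, _ => exact wordOK_spec table_word23 u (Nat.zero_le _) hu
  | 24, _ => exact wordOK_spec table_word24 u (Nat.zero_le _) hu
  | 25, _ => exact wordOK_spec table_word25 u (Nat.zero_le _) hu
  | 26, _ => exact wordOK_spec table_word26 u (Nat.zero_le _) hu
  | 27, _ => exact wordOK_spec table_word27 u (Nat.zero_le _) hu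
  | 28, _ => exact wordOK_spec table_word28 u (Nat.zero_le _) hu
  | 29, _ => exact wordOK_spec table_word29 u (Nat.zero_le _) hu
  | 30, _ => exact wordOK_spec table_word30 u (Nat.zero_le _) hu
  | 31, _ => exact wordOK_spec table_word31 u (Nat.zero_le _) hu
  | 32, _ => exact wordOK_spec table_word32 u (Nat.zero_le _) hu
  | 33, _ => exact wordOK_spec table_word33 u (Nat.zero_le _) hu
  | 34, _ => exact wordOK_spec table_word34 u (Nat.zero_le _) hu
  | 35, _ => exact wordOK_spec table_word35 u (Nat.zero_le _) hu
  | 36, _ => exact wordOK_spec table_word36 u (Nat.zero_le _) hu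
  | 37, _ => exact wordOK_spec table_word37 u (Nat.zero_le _) hu
  | 38, _ => exact wordOK_spec table_word38 u (Nat.zero_le _) hu
  | 39, _ => exact wordOK_spec table_word39 u (Nat.zero_le _) hu
  | 40, _ => exact wordOK_spec table_word40 u (Nat.zero_le _) hu
  | 41, _ => exact wordOK_spec table_word41 u (Nat.zero_le _) hu
  | 42, _ => exact wordOK_spec table_word42 u (Nat.zero_le _) hu
  | 43, _ => exact wordOK_spec table_word43 u (Nat.zero_le _) hu
  | 44, _ => exact wordOK_spec table_word44 u (Nat.zero_le _) hu
  | 45, _ => exact wordOK_spec table_word45 u (Nat.zero_le _) hu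
  | 46, _ => exact wordOK_spec table_word46 u (Nat.zero_le _) hu
  | 47, _ => exact wordOK_spec table_word47 u (Nat.zero_le _) hu
  | j + 48, h => exact absurd h (by omega)

end CfsgLib.Sporadic.CosetCert.FiData
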