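import Cfsg.Agent.Lib.Sporadic.CosetCertGroup

/-!
# Coset enumeration certificate FiData.certA2

Machine-generated data and the kernel checks on it.
-/

set_option maxRecDepth 100000

namespace CfsgLib.Sporadic.CosetCert.FiData

/-- Coset enumeration certificate `fi7`: 3 cosets, 3 nodes, 6 facts. -/
noncomputable def certA2 : Cert where
  N := 3
  M := 3
  nl := 2
  nr := 3
  fuel := 1
  vb := 8
  rb := 4
  iv := 0x210
  words := [(2, 0x0), (6, 0x10101), (2, 0x11), (1, 0x0)]
  slots := (.leaf 0x602501000300402000201100)
  just := (.leaf 0x1010101200020002c0000000000008080300000000000000000000000000000000019)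
  parent := (.leaf 0x4002000)

theorem certA2_keys0 : certA2.keysOK 0 9 = true := by decide +kernel
theorem certA2_closed0 : certA2.closedFrom 7 0 3 = true := by decide +kernel

theorem certA2_valid : certA2.Valid :=
  valid_of
    (fun k hk => (keysOK_spec certA2_keys0) k (Nat.zero_le _) hk)
    (fun u hu => ⟨7, (closedFrom_spec certA2_closed0) u (Nat.zero_le _) hu⟩)
    (by decide +kernel) (by decide +kernel)

end CfsgLib.Sporadic.CosetCert.FiData
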