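import Cfsg.Agent.Lib.Sporadic.FiData.FiCertOData

/-!
# Coset enumeration certificate FiData.certO, checks 0

Machine-generated data and the kernel checks on it.
-/

set_option maxRecDepth 100000

namespace CfsgLib.Sporadic.CosetCert.FiData

theorem certO_keys0 : certO.keysOK 0 4000 = true := by decide +kernel
theorem certO_keys1 : certO.keysOK 4000 4000 = true := by decide +kernel
theorem certO_keys2 : certO.keysOK 8000 4000 = true := by decide +kernel
theorem certO_keys3 : certO.keysOK 12000 4000 = true := by decide +kernel
theorem certO_keys4 : certO.keysOK 16000 4000 = true := by decide +kernel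
theorem certO_keys5 : certO.keysOK 20000 4000 = true := by decide +kernel
theorem certO_keys6 : certO.keysOK 24000 4000 = true := by decide +kernel
theorem certO_keys7 : certO.keysOK 28000 4000 = true := by decide +kernel

end CfsgLib.Sporadic.CosetCert.FiData
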