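import Cfsg.Agent.Lib.Sporadic.FiData.FiTable
import Cfsg.Agent.Lib.Sporadic.FiData.FiCertH

/-!
# Relators act trivially, part 0

Machine-generated data and the kernel checks on it.
-/

set_option maxRecDepth 100000

namespace CfsgLib.Sporadic.CosetCert.FiData

theorem table_word0 : table.wordOK (certH.word 0) 0 3510 = true := by decide +kernel
theorem table_word1 : table.wordOK (certH.word 1) 0 3510 = true := by decide +kernel
theorem table_word2 : table.wordOK (certH.word 2) 0 3510 = true := by decide +kernel
theorem table_word3 : table.wordOK (certH.word 3) 0 3510 = true := by decide +kernel
theorem table_word4 : table.wordOK (certH.word 4) 0 3510 = true := by decide +kernel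
theorem table_word5 : table.wordOK (certH.word 5) 0 3510 = true := by decide +kernel
theorem table_word6 : table.wordOK (certH.word 6) 0 3510 = true := by decide +kernel
theorem table_word7 : table.wordOK (certH.word 7) 0 3510 = true := by decide +kernel
theorem table_word8 : table.wordOK (certH.word 8) 0 3510 = true := by decide +kernel
theorem table_word9 : table.wordOK (certH.word 9) 0 3510 = true := by decide +kernel
theorem table_word10 : table.wordOK (certH.word 10) 0 3510 = true := by decide +kernel
theorem table_word11 : table.wordOK (certH.word 11) 0 3510 = true := by decide +kernel
theorem table_word12 : table.wordOK (certH.word 12) 0 3510 = true := by decide +kernel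
theorem table_word13 : table.wordOK (certH.word 13) 0 3510 = true := by decide +kernel
theorem table_word14 : table.wordOK (certH.word 14) 0 3510 = true := by decide +kernel
theorem table_word15 : table.wordOK (certH.word 15) 0 3510 = true := by decide +kernel

end CfsgLib.Sporadic.CosetCert.FiData
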